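import Cfsg.Agent.StdOE.Cover.Aut

/-!
Basic facts on the double cover on 240 points and the Weyl group of type `E8`.
-/

set_option autoImplicit false

namespace Cfsg.Agent.StdOE.Cover

open Subgroup

/-- The central involution, as an element of the double cover. -/
noncomputable def sgnM : M := ⟨sgn, sgn_mem⟩

theorem center_M_eq : center M = zpowers sgnM := center_M.trans ker_prM

theorem card_center_M : Nat.card ↥(center M) = 2 := by rw [center_M]; exact ker_prM_card

theorem orderOf_sgn : orderOf sgn = 2 := by
  have h : orderOf sgnM = 2 := by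
    rw [← Nat.card_zpowers, ← center_M_eq, card_center_M]
  rwa [← orderOf_injective M.subtype M.subtype_injective sgnM] at h

/-- The quotient by the centre. -/
theorem M_quot {F : Type*} [Field F] [Fintype F] (hF : Fintype.card F = 2) :
    Nonempty ((↥M ⧸ center M) ≃* Cfsg.POmega F (Cfsg.quadFormPlus 4 F)) := by
  obtain ⟨τ⟩ := pomega_transport (F := F) hF
  exact ⟨((QuotientGroup.quotientMulEquivOfEq center_M).trans
    (QuotientGroup.quotientKerEquivOfSurjective prM prM_surjective)).trans τ.symm⟩

theorem refl_not_mem : refl ∉ M := by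
  intro h
  rw [← half_range] at h
  obtain ⟨n, hn⟩ := h
  let φ : Γ₈ →* Γ₈ := reflLift.toMonoidHom
  have hφ : φ = (MulAut.conj n).toMonoidHom := lift_unique fun y => by
    show pr (reflLift y) = pr (n * y * n⁻¹)
    refine mul_inv_eq_one.1 ?_
    rw [← map_inv, ← map_mul, ← MonoidHom.mem_ker]
    refine ker_half_le ?_
    rw [MonoidHom.mem_ker, map_mul, map_inv, half_reflLift, map_mul, map_mul, map_inv, hn,
      mul_inv_cancel]
  have h0 : reflLift z0 = n * z0 * n⁻¹ := DFunLike.congr_fun hφ z0
  rw [mem_center_iff.mp (OrthMult.EightTwo.zc_center card_F₂ (show 0 < 2 by norm_num)) n,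
    mul_inv_cancel_right, reflLift_z0] at h0
  exact z_ne.2.1 (mul_eq_left.1 h0)

theorem index_M_W : M.relIndex W = 2 := by
  rw [Subgroup.relIndex, Subgroup.index_eq_two_iff]
  refine ⟨⟨refl, refl_mem_W⟩, fun b => ?_⟩
  have e : refl⁻¹ = refl := inv_eq_of_mul_eq_one_right refl_sq
  rw [mem_subgroupOf, mem_subgroupOf, Subgroup.coe_mul]
  have hb : refl * (b : Equiv.Perm (Fin 240)) ∈ M ↔ (b : Equiv.Perm (Fin 240)) * refl ∈ M := by
    constructor
    · intro h
      have := refl_conj_mem h
      rwa [e, ← mul_assoc, refl_sq, one_mul] at this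
    · intro h
      have := refl_conj_mem h
      rwa [e, show refl * ((b : Equiv.Perm (Fin 240)) * refl) * refl =
        refl * (b : Equiv.Perm (Fin 240)) * (refl * refl) by group, refl_sq, mul_one] at this
  rcases W_cases b.2 with h | h
  · exact Or.inr ⟨h, fun h' => refl_not_mem (by simpa using mul_mem (inv_mem h) h')⟩
  · exact Or.inl ⟨hb.1 h, fun h' => refl_not_mem (by simpa using mul_mem (inv_mem h') (hb.1 h))⟩

theorem card_W : Nat.card W = 696729600 := by
  rw [← Subgroup.card_mul_index (M.subgroupOf W), ← Subgroup.relIndex, index_M_W,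
    Nat.card_congr (subgroupOfEquivOfLe M_le_W).toEquiv, card_M]

end Cfsg.Agent.StdOE.Cover
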