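import Cfsg.Agent.StdOE.Cover.Lift

/-!
Every double cover of the eight-dimensional orthogonal group of plus type over two elements is
isomorphic to the group on 240 points.
-/

set_option autoImplicit false
set_option maxRecDepth 100000

namespace Cfsg.Agent.StdOE.Cover

open Cfsg.Agent.Classical.Quad Cfsg.Agent.OrthMult.EightTwo Module

/-- The map from the cover onto the double cover. -/
noncomputable def toM : Γ₈ →* M := half.codRestrict M fun y => half_range ▸ ⟨y, rfl⟩

theorem toM_surjective : Function.Surjective toM := by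
  rintro ⟨m, hm⟩
  rw [← half_range] at hm
  obtain ⟨y, rfl⟩ := hm
  exact ⟨y, rfl⟩

theorem ker_toM : toM.ker = half.ker := by
  ext y
  rw [MonoidHom.mem_ker, MonoidHom.mem_ker]
  exact ⟨fun h => congrArg Subtype.val h, fun h => Subtype.ext h⟩

/-- The projection of the double cover. -/
noncomputable def prM : M →* Q₈ :=
  toM.liftOfSurjective toM_surjective ⟨pr, by rw [ker_toM]; exact ker_half_le⟩

theorem prM_toM (y : Γ₈) : prM (toM y) = pr y :=
  toM.liftOfRightInverse_comp_apply _ _ _ y

theorem prM_surjective : Function.Surjective prM := fun q => by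
  obtain ⟨y, rfl⟩ := pr_surjective q
  exact ⟨toM y, prM_toM y⟩

theorem sgn_mem : sgn ∈ M := half_range ▸ ⟨z0, half_z0⟩

theorem ker_prM : prM.ker = Subgroup.zpowers ⟨sgn, sgn_mem⟩ := by
  apply le_antisymm
  · intro m hm
    obtain ⟨y, rfl⟩ := toM_surjective m
    rw [MonoidHom.mem_ker, prM_toM] at hm
    rcases ker_pr_cases hm with rfl | rfl | rfl | rfl
    · rw [map_one]; exact one_mem _
    · exact ⟨1, (zpow_one _).trans (Subtype.ext half_z0.symm)⟩
    · exact (Subtype.ext half_z1 : toM z1 = 1).symm ▸ one_mem _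
    · refine ⟨1, (zpow_one _).trans (Subtype.ext ?_)⟩
      show sgn = half (z0 * z1)
      rw [map_mul, half_z0, half_z1, mul_one]
  · rw [Subgroup.zpowers_le, MonoidHom.mem_ker,
      ← (Subtype.ext half_z0 : toM z0 = ⟨sgn, sgn_mem⟩), prM_toM]
    exact zc_ker card_F₂ (by norm_num)

theorem ker_prM_card : Nat.card prM.ker = 2 := by
  rw [ker_prM, Nat.card_zpowers]
  refine orderOf_eq_prime ?_ fun h => sgn_ne (congrArg Subtype.val h)
  rw [← (Subtype.ext half_z0 : toM z0 = ⟨sgn, sgn_mem⟩), ← map_pow, pow_two, z_sq (by norm_num),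
    map_one]

theorem card_M : Nat.card M = 348364800 := by
  rw [← Subgroup.card_mul_index prM.ker, Subgroup.index_ker, MonoidHom.range_eq_top.mpr prM_surjective,
    Subgroup.card_top, ker_prM_card, card_Q₈]

theorem M_perfect : commutator M = ⊤ := by
  rw [_root_.commutator_def, ← Subgroup.map_top_of_surjective toM toM_surjective, ← Subgroup.map_commutator,
    ← _root_.commutator_def, Γ₈_perfect]

theorem center_Q₈ : Subgroup.center Q₈ = ⊥ := by
  have hn : 5 ≤ finrank F₂ (Fin 4 ⊕ Fin 4 → F₂) := finrank_F₂
  rw [← map_center_omega nondeg_plusQ hn, center_omega card_F₂, Subgroup.map_bot]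

theorem center_M : Subgroup.center M = prM.ker := by
  apply le_antisymm
  · intro m hm
    have h : prM m ∈ Subgroup.center Q₈ := Subgroup.mem_center_iff.2 fun q => by
      obtain ⟨n, rfl⟩ := prM_surjective q
      rw [← map_mul, ← map_mul, Subgroup.mem_center_iff.1 hm n]
    rwa [center_Q₈, Subgroup.mem_bot] at h
  · intro m hm
    obtain ⟨y, rfl⟩ := toM_surjective m
    rw [MonoidHom.mem_ker, prM_toM] at hm
    refine Subgroup.mem_center_iff.2 fun n => ?_
    obtain ⟨x, rfl⟩ := toM_surjective n
    rw [← map_mul, ← map_mul, Subgroup.mem_center_iff.1 (ker_pr_center hm) x]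

/-- A surjection killing the second central involution onto a group of the order of `M`. -/
theorem iso_of_z1 {H : Type} [Group H] [Finite H] (f : Γ₈ →* H) (hf : Function.Surjective f) (h1 : f z1 = 1)
    (hcard : Nat.card H = 348364800) : Nonempty (H ≃* M) := by
  let g : M →* H := toM.liftOfSurjective toM_surjective ⟨f, fun y hy => by
    rw [ker_toM] at hy
    rcases ker_half.mp hy with rfl | rfl
    exacts [map_one f, h1]⟩
  have hg : Function.Surjective g := fun x => by
    obtain ⟨y, rfl⟩ := hf x
    exact ⟨toM y, toM.liftOfRightInverse_comp_apply _ _ _ y⟩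
  exact ⟨(MulEquiv.ofBijective g ((Nat.bijective_iff_surjective_and_card g).2
    ⟨hg, by rw [hcard, card_M]⟩)).symm⟩

theorem map_ι_gen {F : Type*} [Field F] [Fintype F] (hF : Fintype.card F = 2) :
    (ι hF).range = Subgroup.closure ((fun t => ι card_F₂ (gen F₂ t)) '' {t | t < 7}) := by
  apply le_antisymm
  · rintro _ ⟨x, rfl⟩
    have hx := gen_generates hF x
    induction hx using Submonoid.closure_induction with
    | mem t ht =>
      obtain ⟨s, hs, rfl⟩ := ht
      refine Subgroup.subset_closure ⟨s, hs, Equiv.ext fun p => Fin.ext ?_⟩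
      exact (gen_coded card_F₂ s hs p).trans (gen_coded hF s hs p).symm
    | one => rw [map_one]; exact one_mem _
    | mul a b _ _ ha hb => rw [map_mul]; exact mul_mem ha hb
  · rw [Subgroup.closure_le]
    rintro _ ⟨s, hs, rfl⟩
    exact ⟨gen F s, Equiv.ext fun p => Fin.ext
      ((gen_coded hF s hs p).trans (gen_coded card_F₂ s hs p).symm)⟩

/-- The group does not depend on the field of two elements. -/
theorem pomega_transport {F : Type*} [Field F] [Fintype F] (hF : Fintype.card F = 2) :
    Nonempty (Cfsg.POmega F (Cfsg.quadFormPlus 4 F) ≃* Q₈) := by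
  rw [← Cfsg.Agent.Classical.Quad.coe_plusQ]
  exact ⟨(pomegaEquiv hF).symm.trans ((MonoidHom.ofInjective (ι_injective hF)).trans
    ((MulEquiv.subgroupCongr ((map_ι_gen hF).trans (map_ι_gen card_F₂).symm)).trans
      (MonoidHom.ofInjective (ι_injective card_F₂)).symm))⟩

/-- A perfect central extension of the orthogonal group with kernel of order two. -/
theorem iso_of_stem {H : Type} [Group H] [Finite H] (τ : H →* Q₈) (hs : Function.Surjective τ)
    (hz : τ.ker ≤ Subgroup.center H) (hp : commutator H = ⊤) (hk : Nat.card τ.ker = 2) :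
    Nonempty (H ≃* M) := by
  obtain ⟨f, hfs, hf⟩ := exists_univ τ hs hz hp
  have hcard : Nat.card H = 348364800 := by
    rw [← Subgroup.card_mul_index τ.ker, Subgroup.index_ker, MonoidHom.range_eq_top.mpr hs,
      Subgroup.card_top, hk, card_Q₈]
  -- the kernel is generated by one of the three involutions
  have hker : f z0 = 1 ∨ f z1 = 1 ∨ f (z0 * z1) = 1 := by
    by_contra hc
    simp only [not_or] at hc
    obtain ⟨c0, c1, c2⟩ := hc
    have hi : Function.Injective f := by
      rw [injective_iff_map_eq_one]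
      intro y hy
      have hy' : y ∈ pr.ker := by
        rw [MonoidHom.mem_ker, ← hf, MonoidHom.comp_apply, hy, map_one]
      rcases ker_pr_cases hy' with rfl | rfl | rfl | rfl
      exacts [rfl, absurd hy c0, absurd hy c1, absurd hy c2]
    have h1 := Nat.card_le_card_of_injective f hi
    rw [hcard, ← Subgroup.card_mul_index pr.ker, Subgroup.index_ker,
      MonoidHom.range_eq_top.mpr pr_surjective, Subgroup.card_top, ker_pr_card, card_Q₈] at h1
    norm_num at h1
  obtain ⟨α, hα⟩ := exists_swap
  have key : ∀ g : Γ₈ →* H, Function.Surjective g → g z0 = 1 → Nonempty (H ≃* M) := fun g hg h => by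
    refine iso_of_z1 (g.comp α.symm.toMonoidHom) (hg.comp α.symm.surjective) ?_ hcard
    show g (α.symm z1) = 1
    rw [← hα, MulEquiv.symm_apply_apply, h]
  rcases hker with h | h | h
  · exact key f hfs h
  · exact iso_of_z1 f hfs h hcard
  · refine key (f.comp reflLift.toMonoidHom) (hfs.comp reflLift.surjective) ?_
    show f (reflLift z0) = 1
    rw [reflLift_z0, h]

/-- **The double cover is unique.** -/
theorem exists_iso {K : Type*} [Group K] [Finite K] (hp : commutator K = ⊤)
    {F : Type*} [Field F] [Fintype F] (hF : Fintype.card F = 2)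
    (hZ : Nat.card ↥(Subgroup.center K) = 2)
    (hX : Nonempty ((K ⧸ Subgroup.center K) ≃* Cfsg.POmega F (Cfsg.quadFormPlus 4 F))) :
    Nonempty (K ≃* M) := by
  obtain ⟨e⟩ := hX
  obtain ⟨τ₀⟩ := pomega_transport (F := F) hF
  obtain ⟨K₀, i1, i2, ⟨c⟩⟩ := exists_copy K
  let φ : K →* Q₈ := (e.trans τ₀).toMonoidHom.comp (QuotientGroup.mk' (Subgroup.center K))
  have hφ : φ.ker = Subgroup.center K := by
    ext x
    refine ⟨fun h => ?_, fun h => ?_⟩
    · exact (QuotientGroup.eq_one_iff x).1 ((e.trans τ₀).injective ((h : (e.trans τ₀) _ = 1).trans (map_one _).symm))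
    · show (e.trans τ₀) (QuotientGroup.mk x) = 1
      rw [(QuotientGroup.eq_one_iff x).2 h, map_one]
  have hk : (φ.comp c.toMonoidHom).ker = (Subgroup.center K).map c.symm.toMonoidHom := by
    ext x
    rw [Subgroup.mem_map_equiv, MonoidHom.mem_ker, ← hφ, MonoidHom.mem_ker]
    rfl
  obtain ⟨ψ⟩ := iso_of_stem (φ.comp c.toMonoidHom)
    (((e.trans τ₀).surjective.comp QuotientGroup.mk_surjective).comp c.surjective)
    (fun x hx => by
      rw [hk, Subgroup.mem_map_equiv] at hx
      refine Subgroup.mem_center_iff.mpr fun y => c.injective ?_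
      rw [map_mul, map_mul]
      exact Subgroup.mem_center_iff.mp hx (c y))
    (by
      have := congrArg (Subgroup.map c.symm.toMonoidHom) hp
      rwa [_root_.commutator_def, Subgroup.map_commutator,
        Subgroup.map_top_of_surjective c.symm.toMonoidHom c.symm.surjective,
        ← _root_.commutator_def] at this)
    (by rw [hk, Subgroup.card_map_of_injective c.symm.injective, hZ])
  exact ⟨c.symm.trans ψ⟩

end Cfsg.Agent.StdOE.Cover
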