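import Cfsg.Agent.StdOE.Cover.AutBase
import Cfsg.Agent.StdOE.Cover.Iso

/-!
Every automorphism of the double cover is conjugation by an element of the Weyl group of type `E8`.
-/

set_option autoImplicit false
set_option maxRecDepth 100000

namespace Cfsg.Agent.StdOE.Cover

open Cfsg.Agent.Classical.Quad Cfsg.Agent.OrthMult.EightTwo Module

attribute [local irreducible] reflCode reflVec

theorem tref_eq : ∃ h : Q F₂ (decode F₂ reflVec) ≠ 0, tref = rO h := by
  obtain ⟨-, hq, -, -⟩ := refl_spec
  exact ⟨(Q_decode_ne card_F₂).2 hq, by rw [tref, tvec, dif_pos]⟩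

/-- An isometry is in the orthogonal group or differs from it by the reflection. -/
theorem oG_cases (g : oG (Q F₂)) : g ∈ eo (Q F₂) ∨ tref * g ∈ eo (Q F₂) := by
  haveI := eo_normal
  obtain ⟨hv, ht⟩ := tref_eq
  have hex : Nat.card F₂ ≠ 2 ∨ finrank F₂ (Fin 4 ⊕ Fin 4 → F₂) ≠ 4 := Or.inr (by simp)
  have hr : ∀ x ∈ reflSet (Q F₂), tref * x ∈ eo (Q F₂) := by
    rintro _ ⟨v, hv', rfl⟩
    rw [eo_eq_commutator nondeg_plusQ (by simp) hex, ht]
    refine rO_mul_mem_commutator nondeg_plusQ hv hv' (t := 1) ?_
    have h1 : ∀ a : F₂, a ≠ 0 → a = 1 := by decide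
    rw [h1 _ hv, h1 _ hv', one_mul, one_mul]
  have htt : tref * tref = 1 := by rw [ht, rO_mul_self]
  have htt' : tref⁻¹ = tref := inv_eq_of_mul_eq_one_right htt
  have hg : g ∈ Subgroup.closure (reflSet (Q F₂)) := (closure_reflSet nondeg_plusQ hex).symm ▸ Subgroup.mem_top g
  have hcj : ∀ x ∈ eo (Q F₂), tref * x * tref ∈ eo (Q F₂) := fun x hx => by
    simpa [htt'] using Subgroup.Normal.conj_mem inferInstance x hx tref
  induction hg using Subgroup.closure_induction with
  | mem x hx => exact Or.inr (hr x hx)
  | one => exact Or.inl (one_mem _)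
  | mul a b _ _ ha hb =>
    rcases ha with ha | ha <;> rcases hb with hb | hb
    · exact Or.inl (mul_mem ha hb)
    · refine Or.inr ?_
      have h := mul_mem (hcj a ha) hb
      rwa [show tref * a * tref * (tref * b) = tref * a * (tref * tref) * b by group, htt, mul_one,
        mul_assoc] at h
    · exact Or.inr (by rw [← mul_assoc]; exact mul_mem ha hb)
    · refine Or.inl ?_
      have h := mul_mem (hcj _ ha) hb
      rwa [show tref * (tref * a) * tref * (tref * b) = tref * tref * a * (tref * tref) * b by group, htt,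
        one_mul, mul_one] at h
  | inv a _ ha =>
    rcases ha with ha | ha
    · exact Or.inl (inv_mem ha)
    · refine Or.inr ?_
      have h := hcj _ (inv_mem ha)
      rwa [mul_inv_rev, htt', show tref * (a⁻¹ * tref) * tref = tref * a⁻¹ * (tref * tref) by group, htt,
        mul_one] at h

/-- The stabiliser of the second central involution. -/
theorem exists_isometry {β : MulAut Q₈} (hβ : liftAut β z1 = z1) : ∃ g, β = conjQ g := by
  obtain ⟨H, h3, hH⟩ := aut_index
  let S : Subgroup (MulAut Q₈) :=
    { carrier := {β | liftAut β z1 = z1}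
      one_mem' := by
        show liftAut 1 z1 = z1
        rw [map_one]
        rfl
      mul_mem' := fun {a b} ha hb => by
        show liftAut (a * b) z1 = z1
        rw [map_mul, MulAut.mul_apply, show liftAut b z1 = z1 from hb]
        exact ha
      inv_mem' := fun {a} ha => by
        show liftAut a⁻¹ z1 = z1
        rw [map_inv]
        exact (liftAut a).injective (((liftAut a).apply_symm_apply z1).trans ha.symm) }
  have hconj : ∀ g, conjQ g ∈ S := fun g => by
    have hc : ∀ x : Q₈, conjQ (x : oG (Q F₂)) ∈ S := fun x => by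
      show liftAut _ z1 = z1
      rw [conjQ_mem]
      exact liftAut_conj_fix x (zc_center card_F₂ (by norm_num))
    rcases oG_cases g with h | h
    · exact hc ⟨g, h⟩
    · have hm := mul_mem (inv_mem (show conjQ tref ∈ S from reflLift_z1)) (hc ⟨_, h⟩)
      rwa [show conjQ ((⟨tref * g, h⟩ : Q₈) : oG (Q F₂)) = conjQ tref * conjQ g from conjQ_mul _ _,
        inv_mul_cancel_left] at hm
  have hle : H ≤ S := fun β hβ => by
    obtain ⟨g, rfl⟩ := hH β hβ
    exact hconj g
  have hne : S ≠ ⊤ := by
    intro htop
    obtain ⟨α, hα⟩ := exists_swap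
    -- the exchange is the lift of an automorphism downstairs
    have hk : pr.ker.map α.toMonoidHom = pr.ker := by
      have hc : pr.ker = Subgroup.center Γ₈ := by
        refine le_antisymm ker_pr_center fun y hy => ?_
        have h : pr y ∈ Subgroup.center Q₈ := Subgroup.mem_center_iff.2 fun q => by
          obtain ⟨n, rfl⟩ := pr_surjective q
          rw [← map_mul, ← map_mul, Subgroup.mem_center_iff.1 hy n]
        rwa [center_Q₈, Subgroup.mem_bot] at h
      rw [hc]
      ext y
      rw [Subgroup.mem_map_equiv, Subgroup.mem_center_iff, Subgroup.mem_center_iff]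
      constructor
      · intro h n
        have := congrArg α (h (α.symm n))
        simpa using this
      · intro h n
        exact α.injective (by simpa using h (α n))
    let e : Q₈ ≃* Q₈ := ((QuotientGroup.quotientKerEquivOfSurjective pr pr_surjective).symm.trans
      (QuotientGroup.congr pr.ker pr.ker α hk)).trans
      (QuotientGroup.quotientKerEquivOfSurjective pr pr_surjective)
    have he : ∀ y, e (pr y) = pr (α y) := fun y => by
      have h1 : (QuotientGroup.quotientKerEquivOfSurjective pr pr_surjective).symm (pr y) =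
          QuotientGroup.mk y := (MulEquiv.symm_apply_eq _).2 rfl
      simp only [e, MulEquiv.trans_apply, h1]
      rfl
    have heq : liftAut e = α := MulEquiv.ext fun y => DFunLike.congr_fun
      (lift_unique (f := (liftAut e).toMonoidHom) (g := α.toMonoidHom)
        fun x => (pr_liftAut e x).trans (he x)) y
    have h := (htop ▸ Subgroup.mem_top e : e ∈ S)
    change liftAut e z1 = z1 at h
    rw [heq] at h
    exact z_ne.2.2.2 (α.injective (hα.trans h.symm))
  have hS : S = H := by
    have hmul := Subgroup.relIndex_mul_index hle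
    rw [h3] at hmul
    rcases (Nat.dvd_prime Nat.prime_three).1 (Dvd.intro_left _ hmul) with h1 | h1
    · exact absurd (Subgroup.index_eq_one.1 h1) hne
    · refine le_antisymm (Subgroup.relIndex_eq_one.1 ?_) hle
      rw [h1] at hmul
      omega
  exact hH β (hS ▸ hβ)

theorem refl_conj_mem {m : Equiv.Perm (Fin 240)} (hm : m ∈ M) : refl * m * refl⁻¹ ∈ M := by
  rw [← half_range] at hm ⊢
  obtain ⟨y, rfl⟩ := hm
  exact ⟨reflLift y, half_reflLift y⟩

theorem refl_sq : refl * refl = 1 := refl_spec.2.2.1

theorem M_le_W : M ≤ W := le_sup_left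

theorem refl_mem_W : refl ∈ W := le_sup_right (a := M) (Subgroup.mem_zpowers refl)

theorem W_le_normalizer : W ≤ Subgroup.normalizer (M : Set (Equiv.Perm (Fin 240))) := by
  refine sup_le Subgroup.le_normalizer (Subgroup.zpowers_le.2 ?_)
  rw [Subgroup.mem_normalizer_iff]
  refine fun x => ⟨refl_conj_mem, fun h => ?_⟩
  have h2 := refl_conj_mem h
  have e : refl⁻¹ = refl := inv_eq_of_mul_eq_one_right refl_sq
  rwa [e, show refl * (refl * x * refl) * refl = refl * refl * x * (refl * refl) by group, refl_sq,
    one_mul, mul_one] at h2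

theorem W_cases {w : Equiv.Perm (Fin 240)} (hw : w ∈ W) : w ∈ M ∨ refl * w ∈ M := by
  have e : refl⁻¹ = refl := inv_eq_of_mul_eq_one_right refl_sq
  have hsub : M.subgroupOf W ⊔ Subgroup.zpowers (⟨refl, refl_mem_W⟩ : W) = ⊤ := by
    apply Subgroup.map_injective W.subtype_injective
    rw [Subgroup.map_sup, Subgroup.subgroupOf_map_subtype, inf_eq_left.2 M_le_W, MonoidHom.map_zpowers,
      ← MonoidHom.range_eq_map, Subgroup.range_subtype]
    rfl
  haveI : (M.subgroupOf W).Normal := Subgroup.normal_subgroupOf_iff_le_normalizer M_le_W |>.2 W_le_normalizer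
  have h := hsub ▸ Subgroup.mem_top (⟨w, hw⟩ : W)
  rw [Subgroup.mem_sup_of_normal_left] at h
  obtain ⟨m, hm, r, ⟨k, rfl⟩, hmk⟩ := h
  have hmk' : (m : Equiv.Perm (Fin 240)) * refl ^ k = w := by
    simpa using congrArg Subtype.val hmk
  have hm' : (m : Equiv.Perm (Fin 240)) ∈ M := hm
  obtain ⟨j, rfl⟩ | ⟨j, rfl⟩ := Int.even_or_odd k
  · left
    rw [← hmk', ← two_mul, zpow_mul, zpow_two, refl_sq, one_zpow, mul_one]
    exact hm'
  · right
    rw [← hmk', zpow_add, zpow_mul, zpow_two, refl_sq, one_zpow, one_mul, zpow_one, ← mul_assoc]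
    conv => arg 2; arg 2; rw [← e]
    exact refl_conj_mem hm'

/-- The isometries are realised on 240 points. -/
theorem exists_half (g : oG (Q F₂)) : ∃ w ∈ W, ∀ y : Γ₈, ∃ y' : Γ₈,
    half y' = w * half y * w⁻¹ ∧ ((pr y' : Q₈) : oG (Q F₂)) = g * (pr y : Q₈) * g⁻¹ := by
  have hin : ∀ u : Q₈, ∃ n : Γ₈, pr n = u := pr_surjective
  rcases oG_cases g with h | h
  · obtain ⟨n, hn⟩ := hin ⟨g, h⟩
    refine ⟨half n, M_le_W (half_range ▸ ⟨n, rfl⟩), fun y => ⟨n * y * n⁻¹, by simp, ?_⟩⟩
    rw [map_mul, map_mul, map_inv, hn]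
    rfl
  · obtain ⟨n, hn⟩ := hin ⟨_, h⟩
    refine ⟨refl * half n, mul_mem refl_mem_W (M_le_W (half_range ▸ ⟨n, rfl⟩)),
      fun y => ⟨reflLift (n * y * n⁻¹), ?_, ?_⟩⟩
    · rw [half_reflLift]
      simp only [map_mul, map_inv]
      group
    · obtain ⟨hv, ht⟩ := tref_eq
      have htt : tref * tref = 1 := by rw [ht, rO_mul_self]
      rw [show (pr (reflLift (n * y * n⁻¹)) : oG (Q F₂)) = conjQ tref (pr (n * y * n⁻¹)) from
        congrArg Subtype.val (pr_liftAut _ _), conjQ_apply, map_mul, map_mul, map_inv, hn,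
        Subgroup.coe_mul, Subgroup.coe_mul, Subgroup.coe_inv]
      show tref * (tref * g * _ * (tref * g)⁻¹) * tref⁻¹ = _
      rw [show tref * (tref * g * (pr y : Q₈) * (tref * g)⁻¹) * tref⁻¹ =
        tref * tref * (g * (pr y : Q₈) * g⁻¹) * (tref * tref)⁻¹ by group, htt]
      group

/-- **Every automorphism of the double cover is conjugation by an element of the Weyl group.** -/
theorem exists_conj (a : MulAut M) : ∃ w ∈ W, ∀ x : M, (a x : Equiv.Perm (Fin 240)) = w * x * w⁻¹ := by
  have hker : prM.ker.map (a : M ≃* M).toMonoidHom = prM.ker := by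
    rw [← center_M]
    ext y
    rw [Subgroup.mem_map_equiv, Subgroup.mem_center_iff, Subgroup.mem_center_iff]
    constructor
    · intro h n
      simpa using congrArg a (h (a.symm n))
    · intro h n
      exact a.injective (by simpa using h (a n))
  let β : MulAut Q₈ := ((QuotientGroup.quotientKerEquivOfSurjective prM prM_surjective).symm.trans
    (QuotientGroup.congr prM.ker prM.ker a hker)).trans
    (QuotientGroup.quotientKerEquivOfSurjective prM prM_surjective)
  have hβ : ∀ x, β (prM x) = prM (a x) := fun x => by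
    have h1 : (QuotientGroup.quotientKerEquivOfSurjective prM prM_surjective).symm (prM x) =
        QuotientGroup.mk x := (MulEquiv.symm_apply_eq _).2 rfl
    simp only [β, MulEquiv.trans_apply, h1]
    rfl
  -- the lift of `β` fixes the kernel of the action
  have hl : ∀ y, toM (liftAut β y) = a (toM y) := fun y => by
    refine DFunLike.congr_fun (hom_unique Γ₈_perfect prM (center_M.symm.le)
      (f := toM.comp (liftAut β).toMonoidHom) (g := (a : M ≃* M).toMonoidHom.comp toM) ?_) y
    refine MonoidHom.ext fun y => ?_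
    show prM (toM (liftAut β y)) = prM (a (toM y))
    rw [prM_toM, pr_liftAut, ← hβ, prM_toM]
  have hz : liftAut β z1 = z1 := by
    have h : liftAut β z1 ∈ half.ker := by
      rw [← ker_toM, MonoidHom.mem_ker, hl, (Subtype.ext half_z1 : toM z1 = 1), map_one]
    rcases ker_half.mp h with e | e
    · exact absurd ((liftAut β).injective (e.trans (map_one _).symm)) z_ne.2.1
    · exact e
  obtain ⟨g, hg⟩ := exists_isometry hz
  obtain ⟨w, hw, hwy⟩ := exists_half g
  have hn := Subgroup.mem_normalizer_iff.1 (W_le_normalizer hw)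
  let c : M →* M := ((MulAut.conj w).toMonoidHom.comp M.subtype).codRestrict M fun x => (hn x).1 x.2
  have h : (a : M ≃* M).toMonoidHom = c := by
    refine hom_unique M_perfect prM center_M.symm.le (MonoidHom.ext fun x => ?_)
    obtain ⟨y, rfl⟩ := toM_surjective x
    obtain ⟨y', hy', hp⟩ := hwy y
    show prM (a (toM y)) = prM (c (toM y))
    rw [show c (toM y) = toM y' from Subtype.ext hy'.symm, ← hβ, prM_toM, prM_toM, hg]
    exact Subtype.ext hp.symm
  exact ⟨w, hw, fun x => congrArg Subtype.val (DFunLike.congr_fun h x)⟩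

/-- Only the centre of the double cover centralises it in the Weyl group. -/
theorem W_centralizer {w : Equiv.Perm (Fin 240)} (hw : w ∈ W) (h : ∀ m ∈ M, w * m = m * w) :
    w = 1 ∨ w = sgn := by
  have hM : w ∈ M := by
    refine (W_cases hw).resolve_right fun hm => ?_
    rw [← half_range] at hm
    obtain ⟨n, hn⟩ := hm
    -- the reflection would act as an inner automorphism, but it moves the first central involution
    have e : refl⁻¹ = refl := inv_eq_of_mul_eq_one_right refl_sq
    have hcomm : ∀ y, half y = half (reflLift (n * y * n⁻¹)) := fun y => by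
      rw [half_reflLift, map_mul, map_mul, map_inv, hn]
      have hy := h (half y) (half_range ▸ ⟨y, rfl⟩)
      rw [show refl * (refl * w * half y * (refl * w)⁻¹) * refl⁻¹ =
        refl * refl * (w * half y * w⁻¹) * (refl * refl)⁻¹ by group, refl_sq, hy]
      group
    let φ : Γ₈ →* Γ₈ := reflLift.toMonoidHom.comp (MulAut.conj n).toMonoidHom
    have hφ : φ = MonoidHom.id Γ₈ := lift_unique fun y => by
      show pr (reflLift (n * y * n⁻¹)) = pr y
      refine (mul_inv_eq_one.1 ?_)
      rw [← map_inv, ← map_mul, ← MonoidHom.mem_ker]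
      refine ker_half_le ?_
      rw [MonoidHom.mem_ker, map_mul, map_inv, ← hcomm, mul_inv_cancel]
    have h0 : reflLift (n * z0 * n⁻¹) = z0 := DFunLike.congr_fun hφ z0
    rw [Subgroup.mem_center_iff.mp (zc_center card_F₂ (show 0 < 2 by norm_num)) n, mul_inv_cancel_right,
      reflLift_z0] at h0
    exact z_ne.2.1 (mul_eq_left.1 h0)
  have hc : (⟨w, hM⟩ : M) ∈ prM.ker := center_M ▸ Subgroup.mem_center_iff.2 fun m =>
    Subtype.ext (h m m.2).symm
  obtain ⟨y, hy⟩ := toM_surjective ⟨w, hM⟩
  rw [MonoidHom.mem_ker, ← hy, prM_toM] at hc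
  have hw' : half y = w := congrArg Subtype.val hy
  rcases ker_pr_cases hc with rfl | rfl | rfl | rfl
  · exact Or.inl (hw'.symm.trans (map_one _))
  · exact Or.inr (hw'.symm.trans half_z0)
  · exact Or.inl (hw'.symm.trans half_z1)
  · exact Or.inr (hw'.symm.trans (by rw [map_mul, half_z0, half_z1, mul_one]))

end Cfsg.Agent.StdOE.Cover
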