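import Cfsg.Agent.StdOE.Cover.Model

/-!
Automorphisms of the universal cover: every automorphism of the orthogonal group lifts, the exchange
of the halves and the reflection permute the three central involutions transitively.
-/

set_option autoImplicit false
set_option maxRecDepth 100000

namespace Cfsg.Agent.StdOE.Cover

open Cfsg.Agent.Compute Cfsg.Agent.StemCert Cfsg.Agent.StemCert.CyclicSheets
  Cfsg.Agent.Classical.Quad Cfsg.Agent.OrthMult.EightTwo Module
open scoped commutatorElement

attribute [local irreducible] cMul cId lifts liftInvs flipA flipB coverChain codes pairsA pairsB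
  ptsCode posCode tvWords flipCode flipPairs halfCodes signCode reflCode swapCode swapImgs reflImgs
  reflImgInvs

/-- The universal cover maps onto every perfect central extension. -/
theorem exists_univ {H : Type} [Group H] [Finite H] (τ : H →* Q₈) (hs : Function.Surjective τ)
    (hz : τ.ker ≤ Subgroup.center H) (hp : commutator H = ⊤) :
    ∃ f : Γ₈ →* H, Function.Surjective f ∧ τ.comp f = pr := by
  refine exists_cover_hom pr pr_surjective ker_pr_center Γ₈_perfect τ hs hz hp fun Δ _ _ π hπ => ?_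
  obtain ⟨φ, hφ⟩ := kernel_bound card_F₂ π hπ
  rw [ker_pr_card]
  refine (Nat.card_le_card_of_surjective φ hφ).trans ?_
  simp

theorem exists_lift_aut (β : MulAut Q₈) : ∃ f : MulAut Γ₈, ∀ y, pr (f y) = β (pr y) := by
  obtain ⟨f, hfs, hf⟩ := exists_univ ((β.symm : Q₈ ≃* Q₈).toMonoidHom.comp pr)
    ((β.symm.surjective).comp pr_surjective)
    (fun x hx => ker_pr_center (β.symm.injective ((hx : β.symm (pr x) = 1).trans (map_one _).symm))) Γ₈_perfect
  refine ⟨MulEquiv.ofBijective f ⟨Finite.injective_iff_surjective.mpr hfs, hfs⟩, fun y => ?_⟩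
  have h : β.symm (pr (f y)) = pr y := DFunLike.congr_fun hf y
  show pr (f y) = β (pr y)
  rw [← h, MulEquiv.apply_symm_apply]

/-- The lift of an automorphism. -/
noncomputable def liftFun (β : MulAut Q₈) : MulAut Γ₈ := Classical.choose (exists_lift_aut β)

theorem pr_liftFun (β : MulAut Q₈) (y : Γ₈) : pr (liftFun β y) = β (pr y) :=
  Classical.choose_spec (exists_lift_aut β) y

theorem lift_unique {f g : Γ₈ →* Γ₈} (h : ∀ y, pr (f y) = pr (g y)) : f = g :=
  hom_unique Γ₈_perfect pr ker_pr_center (MonoidHom.ext h)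

/-- Lifting automorphisms is a homomorphism. -/
noncomputable def liftAut : MulAut Q₈ →* MulAut Γ₈ :=
  MonoidHom.mk' liftFun fun a b => MulEquiv.ext fun y => DFunLike.congr_fun
    (lift_unique (f := (liftFun (a * b)).toMonoidHom)
      (g := (liftFun a * liftFun b).toMonoidHom) fun x => by
      show pr (liftFun (a * b) x) = pr (liftFun a (liftFun b x))
      rw [pr_liftFun, pr_liftFun, pr_liftFun]
      rfl) y

theorem pr_liftAut (β : MulAut Q₈) (y : Γ₈) : pr (liftAut β y) = β (pr y) := pr_liftFun β y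

theorem liftAut_conj (g : Γ₈) : liftAut (MulAut.conj (pr g)) = MulAut.conj g :=
  MulEquiv.ext fun y => DFunLike.congr_fun
    (lift_unique (f := (liftAut (MulAut.conj (pr g))).toMonoidHom) (g := (MulAut.conj g).toMonoidHom)
      fun x => by
      show pr (liftAut _ x) = pr (g * x * g⁻¹)
      rw [pr_liftAut, MulAut.conj_apply, map_mul, map_mul, map_inv]) y

theorem liftAut_conj_fix (a : Q₈) {z : Γ₈} (hz : z ∈ Subgroup.center Γ₈) :
    liftAut (MulAut.conj a) z = z := by
  obtain ⟨g, rfl⟩ := pr_surjective a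
  rw [liftAut_conj, MulAut.conj_apply, Subgroup.mem_center_iff.mp hz g, mul_inv_cancel_right]

theorem range_snd (σ : Equiv.Perm (Fin 480)) :
    σ ∈ rep2s.chainGroup coverChain ↔ ∃ y : Γ₈, y.1.2 = σ := by
  let f : Γ₈ →* Equiv.Perm (Fin 480) := (MonoidHom.snd _ _).comp (cover F₂).subtype
  have hle : f.range ≤ rep2s.chainGroup coverChain := by
    rw [MonoidHom.range_eq_map, ← lift_closure, MonoidHom.map_closure, Subgroup.closure_le]
    rintro _ ⟨_, ⟨s, hs, rfl⟩, rfl⟩
    show (lift F₂ s).1.2 ∈ _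
    rw [lift_val hs]
    exact rep2s.den_mem_span (lift_spec hs).1
  have hc : Nat.card (rep2s.chainGroup coverChain) ≤ Nat.card f.range := by
    rw [rep2s.card_chainGroup coverChain cover_check, cover_size,
      ← Nat.card_congr (MonoidHom.ofInjective (f := f) (snd_injective card_F₂)).toEquiv,
      ← Subgroup.card_mul_index pr.ker, Subgroup.index_ker, MonoidHom.range_eq_top.mpr pr_surjective,
      Subgroup.card_top, ker_pr_card, card_Q₈]
  rw [← Subgroup.eq_of_le_of_card_ge hle hc]
  rfl

theorem exists_of_sift {c : ℕ} (hok : rep2s.Ok c) (h : rep2s.sift coverChain c = rep2s.one) :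
    ∃ y : Γ₈, y.1.2 = rep2s.den c :=
  (range_snd _).1 (rep2s.mem_of_sift _ cover_check hok h)

/-- An automorphism of the cover sends the first central involution to the second. -/
theorem exists_swap : ∃ α : MulAut Γ₈, α z0 = z1 := by
  have h := swap_ok
  simp only [Bool.and_eq_true, allBelow_eq_true, Nat.beq_eq] at h
  obtain ⟨⟨hok, hflip⟩, hs⟩ := h
  set P := rep2s.den swapCode with hP
  have hokP : rep2s.Ok swapCode := ok_of_check (by norm_num) hok
  let f : Γ₈ →* Equiv.Perm (Fin 480) := (MonoidHom.snd _ _).comp (cover F₂).subtype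
  let g : Γ₈ →* Equiv.Perm (Fin 480) := (MulAut.conj P).toMonoidHom.comp f
  have hmem : ∀ y, g y ∈ f.range := by
    suffices ⊤ ≤ f.range.comap g from fun y => this (Subgroup.mem_top y)
    rw [← lift_closure, Subgroup.closure_le]
    rintro _ ⟨s, hs', rfl⟩
    obtain ⟨⟨hc, hsift⟩, hconj⟩ := hs s hs'
    have hoc : rep2s.Ok (swapImgs.getD s 0) := ok_of_check (by norm_num) hc
    obtain ⟨w, hw⟩ := exists_of_sift hoc hsift
    refine ⟨w, ?_⟩
    show w.1.2 = P * (lift F₂ s).1.2 * P⁻¹
    obtain ⟨-, ho, -, -⟩ := lift_spec hs'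
    rw [hw, lift_val hs', eq_mul_inv_iff_mul_eq, hP, ← rep2s.den_mul _ _ hoc hokP,
      ← rep2s.den_mul _ _ hokP ho, rep_mul, rep_mul, hconj]
  have hfi : Function.Injective f := snd_injective card_F₂
  let α : Γ₈ →* Γ₈ := ((MonoidHom.ofInjective hfi).symm.toMonoidHom).comp (g.codRestrict f.range hmem)
  have hα : ∀ y, f (α y) = g y := fun y =>
    MonoidHom.apply_ofInjective_symm hfi ⟨g y, hmem y⟩
  have hαi : Function.Injective α := fun a b h => by
    have e : g a = g b := by rw [← hα, ← hα, h]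
    exact hfi ((MulAut.conj P).injective e)
  refine ⟨MulEquiv.ofBijective α ⟨hαi, Finite.injective_iff_surjective.mp hαi⟩, hfi ?_⟩
  show f (α z0) = z1.1.2
  rw [hα]
  show P * z0.1.2 * P⁻¹ = z1.1.2
  rw [snd_z0, snd_z1, mul_inv_eq_iff_eq_mul, hP, ← rep2s.den_mul _ _ hokP ok_flipA,
    ← rep2s.den_mul _ _ ok_flipB hokP, rep_mul, rep_mul, hflip]

/-- The reflection of the vector space. -/
noncomputable def tref : oG (Q F₂) := tvec F₂ reflVec

theorem refl_spec : COk 8 2 120 reflCode ∧ qB reflVec = true ∧ refl * refl = 1 ∧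
    ∀ p < 120, tvImg reflVec (getField 8 ptsCode p) = getField 8 ptsCode (getField 8 reflCode p / 2) := by
  have h := refl_ok
  simp only [Bool.and_eq_true, allBelow_eq_true, Nat.beq_eq] at h
  obtain ⟨⟨⟨⟨hok, -⟩, hq⟩, hsq⟩, hp⟩ := h
  have ho : COk 8 2 120 reflCode := ok_of_check (by norm_num) hok
  refine ⟨ho, hq, ?_, hp⟩
  have e : rep2h.mul reflCode reflCode = rep2h.one := hsq
  rw [refl, ← rep2h.den_mul _ _ ho ho, e, rep2h.den_one]

theorem tref_vec (x : Fin 240) : tref.1 (decode F₂ (getField 8 ptsCode ((x : ℕ) / 2))) =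
    decode F₂ (getField 8 ptsCode ((refl x : ℕ) / 2)) := by
  obtain ⟨ho, hq, -, hp⟩ := refl_spec
  rw [tref, tvec_apply card_F₂ hq, hp _ (by omega), refl, den_half ho, cAct_div (by norm_num)]

/-- Conjugation by the reflection on 240 points is conjugation by the reflection downstairs. -/
theorem pr_of_half_conj {y y' : Γ₈} (h : half y' = refl * half y * refl⁻¹) :
    ((pr y' : Q₈) : oG (Q F₂)) = tref * (pr y : Q₈) * tref⁻¹ := by
  rw [eq_mul_inv_iff_mul_eq]
  refine ext_oG fun v => ?_
  have key : ∀ p : Fin 120, (((pr y' : Q₈) : oG (Q F₂)) * tref).1 (decode F₂ (getField 8 ptsCode p)) =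
      (tref * ((pr y : Q₈) : oG (Q F₂))).1 (decode F₂ (getField 8 ptsCode p)) := by
    intro p
    have hx : 2 * (p : ℕ) < 240 := by omega
    set x : Fin 240 := ⟨2 * (p : ℕ), hx⟩
    have h1 := tref_vec x
    have h2 := ι_apply card_F₂ (pr y') ⟨(refl x : ℕ) / 2, by omega⟩
    have h3 := ι_apply card_F₂ (pr y) p
    have h4 := tref_vec (half y x)
    rw [← half_div y' (refl x), show half y' (refl x) = refl (half y x) by rw [h]; simp] at h2
    have e : (half y x : ℕ) / 2 = (ι card_F₂ (pr y) p : ℕ) := by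
      rw [half_div]
      congr 2
      exact Fin.ext (Nat.mul_div_cancel_left _ (by norm_num))
    rw [e] at h4
    have hxp : (x : ℕ) / 2 = p := Nat.mul_div_cancel_left _ (by norm_num)
    rw [hxp] at h1
    rw [oG_mul_apply, oG_mul_apply, h1, ← h3, h4, ← h2]
  obtain ⟨c, hc, rfl⟩ := decode_surjective card_F₂ v
  have hs := allBelow_eq_true.mp span_ok c hc
  simp only [Bool.not_eq_true', ← Bool.not_eq_true, allBelow_eq_true] at hs
  push Not at hs
  obtain ⟨a, ha, hqa⟩ := hs
  obtain ⟨h1, h2⟩ := pos_spec (Nat.xor_lt_two_pow (n := 8) hc (getField_lt 8 _ _)) hqa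
  have e1 := key ⟨_, h1⟩
  simp only [h2] at e1
  rw [show decode F₂ (c ^^^ getField 8 ptsCode a) = _ from decode_xor card_F₂ c _, map_add, map_add,
    key ⟨a, ha⟩] at e1
  exact add_right_cancel e1

theorem eo_normal : (eo (Q F₂)).Normal := by
  rw [eo_eq_commutator nondeg_plusQ (by simp) (Or.inr (by simp))]
  infer_instance

/-- Conjugation by an isometry. -/
noncomputable def conjQ (g : oG (Q F₂)) : MulAut Q₈ :=
  haveI := eo_normal
  MulAut.conjNormal g

theorem conjQ_apply (g : oG (Q F₂)) (x : Q₈) : (conjQ g x : oG (Q F₂)) = g * x * g⁻¹ := rfl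

theorem conjQ_mul (g h : oG (Q F₂)) : conjQ (g * h) = conjQ g * conjQ h :=
  MulEquiv.ext fun x => Subtype.ext (by
    show (conjQ (g * h) x : oG (Q F₂)) = (conjQ g (conjQ h x) : oG (Q F₂))
    rw [conjQ_apply, conjQ_apply, conjQ_apply]
    group)

theorem conjQ_mem (a : Q₈) : conjQ (a : oG (Q F₂)) = MulAut.conj a :=
  MulEquiv.ext fun x => Subtype.ext rfl

/-- The lifts of the conjugates of the generators by the reflection. -/
theorem reflImg_spec {s : ℕ} (hs : s < 7) : ∃ e : Γ₈, e.1.2 = rep2s.den (reflImgs.getD s 0) ∧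
    half e = refl * gen240 s * refl⁻¹ ∧ rep2s.Ok (reflImgs.getD s 0) ∧ rep2s.Ok (reflImgInvs.getD s 0) ∧
    rep2s.den (reflImgInvs.getD s 0) = (rep2s.den (reflImgs.getD s 0))⁻¹ := by
  have h := allBelow_eq_true.mp reflImg_ok s hs
  simp only [Bool.and_eq_true, allBelow_eq_true, Nat.beq_eq] at h
  obtain ⟨⟨⟨⟨ho, hoi⟩, hinv⟩, hsift⟩, hact⟩ := h
  have o : rep2s.Ok (reflImgs.getD s 0) := ok_of_check (by norm_num) ho
  have oi : rep2s.Ok (reflImgInvs.getD s 0) := ok_of_check (by norm_num) hoi
  obtain ⟨e, he⟩ := exists_of_sift o hsift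
  have hoh : COk 8 2 120 (halfCodes.getD s 0) := by
    have := allBelow_eq_true.mp half_ok s hs
    simp only [Bool.and_eq_true] at this
    exact ok_of_check (by norm_num) this.1
  obtain ⟨hor, -, hsq, -⟩ := refl_spec
  have hh : rep2h.Ok (rep2h.mul reflCode (rep2h.mul (halfCodes.getD s 0) reflCode)) :=
    rep2h.ok_mul _ _ hor (rep2h.ok_mul _ _ hoh hor)
  refine ⟨e, he, ?_, o, oi, eq_inv_of_mul_eq_one_left ?_⟩
  · rw [inv_eq_of_mul_eq_one_right hsq, mul_assoc, gen240, refl, ← rep2h.den_mul _ _ hoh hor,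
      ← rep2h.den_mul _ _ hor (rep2h.ok_mul _ _ hoh hor)]
    refine Equiv.ext fun x => Fin.ext ?_
    rw [half_apply, he, act2s o, den_half hh x]
    exact hact x x.2
  · rw [← rep2s.den_mul _ _ oi o, rep_mul, hinv, ← rep_one, rep2s.den_one]

/-- The lifts of the conjugates, as a function. -/
noncomputable def eimg (s : ℕ) : Γ₈ :=
  if hs : s < 7 then Classical.choose (reflImg_spec hs) else 1

theorem eimg_snd {s : ℕ} (hs : s < 7) : (eimg s).1.2 = rep2s.den (reflImgs.getD s 0) := by
  rw [eimg, dif_pos hs]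
  exact (Classical.choose_spec (reflImg_spec hs)).1

theorem eimg_half {s : ℕ} (hs : s < 7) : half (eimg s) = refl * half (lift F₂ s) * refl⁻¹ := by
  rw [eimg, dif_pos hs, half_lift hs]
  exact (Classical.choose_spec (reflImg_spec hs)).2.1

/-- The lift of the reflection. -/
noncomputable def reflLift : MulAut Γ₈ := liftAut (conjQ tref)

theorem half_reflLift (y : Γ₈) : half (reflLift y) = refl * half y * refl⁻¹ := by
  suffices h : (half.comp reflLift.toMonoidHom) = (MulAut.conj refl).toMonoidHom.comp half from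
    DFunLike.congr_fun h y
  refine MonoidHom.eq_of_eqOn_top fun y _ => ?_
  suffices (⊤ : Subgroup Γ₈) ≤
      (half.comp reflLift.toMonoidHom).eqLocus ((MulAut.conj refl).toMonoidHom.comp half) from
    this (Subgroup.mem_top y)
  -- both sides agree on commutators of lifts, which generate
  rw [← Γ₈_perfect, _root_.commutator_def, Subgroup.commutator_le]
  intro a _ b _
  have hcl : ∀ a : Γ₈, ∃ a' : Γ₈, half a' = refl * half a * refl⁻¹ := by
    suffices ⊤ ≤ M.comap ((MulAut.conj refl).toMonoidHom.comp half) from fun a => by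
      have hm := this (Subgroup.mem_top a)
      rw [← half_range] at hm
      exact hm
    rw [← lift_closure, Subgroup.closure_le]
    rintro _ ⟨s, hs, rfl⟩
    show refl * half (lift F₂ s) * refl⁻¹ ∈ M
    rw [← half_range, ← eimg_half hs]
    exact ⟨_, rfl⟩
  obtain ⟨a', ha'⟩ := hcl a
  obtain ⟨b', hb'⟩ := hcl b
  have hd : ∀ {a a' : Γ₈}, half a' = refl * half a * refl⁻¹ → reflLift a * a'⁻¹ ∈ Subgroup.center Γ₈ :=
    fun {a a'} ha => ker_pr_center (by
      rw [MonoidHom.mem_ker, map_mul, map_inv, mul_inv_eq_one]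
      exact Subtype.ext ((congrArg Subtype.val (pr_liftAut _ a)).trans (pr_of_half_conj ha).symm))
  show half (reflLift ⁅a, b⁆) = refl * half ⁅a, b⁆ * refl⁻¹
  rw [map_commutatorElement reflLift, ← inv_mul_cancel_right (reflLift a) a',
    ← inv_mul_cancel_right (reflLift b) b', commutator_mul_central (hd ha') (hd hb'),
    map_commutatorElement, ha', hb', map_commutatorElement]
  simp only [commutatorElement_def]
  group

theorem reflLift_z1 : reflLift z1 = z1 := by
  have h : reflLift z1 ∈ half.ker := by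
    rw [MonoidHom.mem_ker, half_reflLift, half_z1, mul_one, mul_inv_cancel]
  rcases ker_half.mp h with e | e
  · exact absurd (reflLift.injective (e.trans (map_one _).symm)) z_ne.2.1
  · exact e

theorem reflLift_z0 : reflLift z0 = z0 * z1 := by
  obtain ⟨-, hp, -⟩ := cent_spec (r := 0) (by norm_num)
  have hd : ∀ s, s < 7 → reflLift (lift F₂ s) * (eimg s)⁻¹ ∈ Subgroup.center Γ₈ := fun s hs =>
    ker_pr_center (by
      rw [MonoidHom.mem_ker, map_mul, map_inv, mul_inv_eq_one]
      exact Subtype.ext ((congrArg Subtype.val (pr_liftAut _ _)).trans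
        (pr_of_half_conj (eimg_half hs)).symm))
  have e1 : ∀ l : List (ℕ × ℕ), (∀ p ∈ l, p.1 < 7 ∧ p.2 < 7) →
      reflLift (commProd (lift F₂) l) = commProd eimg l ∧
      rep2s.Ok (commOf reflImgs reflImgInvs l) ∧
      rep2s.den (commOf reflImgs reflImgInvs l) = (commProd eimg l).1.2 := by
    intro l hl
    induction l with
    | nil =>
      refine ⟨map_one _, ?_⟩
      rw [show commOf reflImgs reflImgInvs [] = cId 9 2 240 from rfl, ← rep_one]
      exact ⟨rep2s.ok_one, rep2s.den_one⟩
    | cons p l ih =>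
      obtain ⟨ha, hb⟩ := hl p (by simp)
      obtain ⟨i1, i2, i3⟩ := ih fun x hx => hl x (by simp [hx])
      have hc : ∀ g : ℕ → Γ₈, commProd g (p :: l) = ⁅g p.1, g p.2⁆ * commProd g l := fun _ => rfl
      refine ⟨?_, ?_⟩
      · rw [hc, hc, map_mul, i1, map_commutatorElement reflLift,
          ← inv_mul_cancel_right (reflLift (lift F₂ p.1)) (eimg p.1),
          ← inv_mul_cancel_right (reflLift (lift F₂ p.2)) (eimg p.2),
          commutator_mul_central (hd _ ha) (hd _ hb)]
      obtain ⟨-, -, -, oa, oai, da⟩ := reflImg_spec ha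
      obtain ⟨-, -, -, ob, obi, db⟩ := reflImg_spec hb
      have o1 := rep2s.ok_mul _ _ oa ob
      have o2 := rep2s.ok_mul _ _ o1 oai
      have o3 := rep2s.ok_mul _ _ o2 obi
      have hcc : commOf reflImgs reflImgInvs (p :: l) = rep2s.mul (rep2s.mul (rep2s.mul (rep2s.mul
          (reflImgs.getD p.1 0) (reflImgs.getD p.2 0)) (reflImgInvs.getD p.1 0)) (reflImgInvs.getD p.2 0))
          (commOf reflImgs reflImgInvs l) := by
        simp only [rep_mul]
        rfl
      rw [hcc]
      refine ⟨rep2s.ok_mul _ _ o3 i2, ?_⟩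
      rw [rep2s.den_mul _ _ o3 i2, rep2s.den_mul _ _ o2 obi, rep2s.den_mul _ _ o1 oai,
        rep2s.den_mul _ _ oa ob, da, db, i3, hc, commutatorElement_def]
      simp only [Subgroup.coe_mul, Subgroup.coe_inv, eimg_snd ha, eimg_snd hb, Prod.snd_mul,
        Prod.snd_inv]
  obtain ⟨h1, -, h3⟩ := e1 _ hp
  refine snd_injective card_F₂ ?_
  show (reflLift (commProd (lift F₂) (flipPairs 0))).1.2 = (z0 * z1).1.2
  rw [h1, ← h3]
  have hfp : flipPairs 0 = pairsA := by unfold flipPairs; rfl
  rw [hfp, show commOf reflImgs reflImgInvs pairsA = cMul 9 2 240 flipA flipB from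
    Nat.eq_of_beq_eq_true reflComm_ok, Subgroup.coe_mul, Prod.snd_mul, snd_z0, snd_z1,
    ← rep2s.den_mul _ _ ok_flipA ok_flipB, rep_mul]

end Cfsg.Agent.StdOE.Cover
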