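import Cfsg.Agent.AutPOmega.Triality.Aut8
import Cfsg.Agent.Classical.OrthBlocks
import Cfsg.Agent.StdOE.Cover.Lift

/-!
A subgroup of index three of the automorphisms of the orthogonal group of plus type over two
elements consists of conjugations by isometries.
-/

set_option autoImplicit false
set_option maxHeartbeats 400000

namespace Cfsg.Agent.StdOE.Cover

open Module Matrix Cfsg.Agent.Classical.Quad Cfsg.Agent.AutPOmega Cfsg.Agent.AutPOmega.Triality

theorem qPlus_eq_Q : qPlus F₂ 4 = OrthMult.EightTwo.Q F₂ :=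
  QuadraticMap.ext fun v => by
    rw [qPlus_apply]
    exact (congrFun coe_plusQ v).symm

theorem transport_index {A B : Type} [Group A] [Group B] (E : A ≃* B) (K : Subgroup (MulAut A)) :
    ∃ H : Subgroup (MulAut B), H.index = K.index ∧
      ∀ β ∈ H, ∃ α ∈ K, ∀ x, β x = E (α (E.symm x)) := by
  refine ⟨K.map (MulAut.congr E).toMonoidHom, Subgroup.index_map_of_bijective (MulAut.congr E).bijective K, ?_⟩
  rintro _ ⟨α, hα, rfl⟩
  exact ⟨α, hα, fun x => rfl⟩

theorem aut_index_aux : ∃ H : Subgroup (MulAut ↥(eo (qPlus F₂ 4))), H.index = 3 ∧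
    ∀ β ∈ H, ∃ g : oG (qPlus F₂ 4), ∀ x, (β x : oG (qPlus F₂ 4)) = g * x * g⁻¹ := by
  have hQ : (QuadraticMap.polarBilin (qPlus F₂ 4)).Nondegenerate := qPlus_eq_Q ▸ nondeg_plusQ
  have hn : 5 ≤ finrank F₂ (Fin 4 ⊕ Fin 4 → F₂) := finrank_F₂
  have hc : Subgroup.center (Om (qPlus F₂ 4)) = ⊥ := by
    show Subgroup.center ↥(Cfsg.Omega F₂ ⇑(qPlus F₂ 4)) = ⊥
    rw [qPlus_eq_Q]
    exact OrthMult.EightTwo.center_omega card_F₂
  let mk : Om (qPlus F₂ 4) ≃* Cfsg.POmega F₂ ⇑(qPlus F₂ 4) :=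
    MulEquiv.ofBijective mkO ⟨by
      rw [← MonoidHom.ker_eq_bot_iff]
      exact (QuotientGroup.ker_mk' _).trans hc, mkO_surjective⟩
  let E : Cfsg.POmega F₂ ⇑(qPlus F₂ 4) ≃* ↥(eo (qPlus F₂ 4)) := mk.symm.trans (omegaEquiv hQ hn)
  have hE : ∀ s, E (mkO s) = omegaEquiv hQ hn s := fun s =>
    congrArg (omegaEquiv hQ hn) (mk.symm_apply_apply s)
  obtain ⟨H, h3, hH⟩ := transport_index E (gam F₂)
  refine ⟨H, h3.trans gam_index, fun β' hβ' => ?_⟩
  obtain ⟨β, hβ, hval⟩ := hH β' hβ'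
  obtain ⟨T, hTβ⟩ := mem_gam_iff.1 hβ
  subst hTβ
  have hc1 : T.c = 1 := by
    have := T.c_ne
    revert this
    generalize T.c = c
    revert c
    decide
  have hσ : ∀ a, T.σ a = a := fun a => by
    have h01 : a = 0 ∨ a = 1 := by
      revert a
      decide
    rcases h01 with rfl | rfl
    exacts [map_zero _, map_one _]
  have hT : T.g ∈ Cfsg.isometryGroup F₂ ⇑(qPlus F₂ 4) := mem_isometryGroup_iff.2 fun v => by
    have h := T.map_Q v
    rw [hc1, one_mul, hσ, show (fun i => T.σ (v i)) = v from funext fun i => hσ _] at h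
    exact h
  refine ⟨oEquiv _ ⟨T.g, hT⟩, fun x => ?_⟩
  obtain ⟨s, rfl⟩ := (omegaEquiv hQ hn).surjective x
  have happ : ∀ v, T.app v = T.g.1 *ᵥ v := fun v => by
    show T.g.1 *ᵥ (fun i => T.σ (v i)) = _
    rw [show (fun i => T.σ (v i)) = v from funext fun i => hσ _]
  rw [hval, show E.symm (omegaEquiv hQ hn s) = mkO s from E.symm_apply_eq.2 (hE s).symm, T.aut_mkO, hE,
    eq_mul_inv_iff_mul_eq]
  refine ext_oG fun v => ?_
  rw [oG_mul_apply, oG_mul_apply, oEquiv_apply, oEquiv_apply, omegaEquiv_apply, omegaEquiv_apply]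
  have h := T.omAut_app s v
  rw [happ, happ] at h
  exact h

/-- A subgroup of index three consists of conjugations by isometries. -/
theorem aut_index : ∃ H : Subgroup (MulAut Q₈), H.index = 3 ∧ ∀ β ∈ H, ∃ g, β = conjQ g := by
  have key : ∀ Q', Q' = qPlus F₂ 4 → ∃ H : Subgroup (MulAut ↥(eo Q')), H.index = 3 ∧
      ∀ β ∈ H, ∃ g : oG Q', ∀ x, (β x : oG Q') = g * x * g⁻¹ := by
    rintro _ rfl
    exact aut_index_aux
  obtain ⟨H, h3, hH⟩ := key (OrthMult.EightTwo.Q F₂) qPlus_eq_Q.symm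
  exact ⟨H, h3, fun β hβ => (hH β hβ).imp fun g hg => MulEquiv.ext fun x => Subtype.ext (hg x)⟩

end Cfsg.Agent.StdOE.Cover
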