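import Cfsg.Agent.OrthMult.EightTwo
import Cfsg.Agent.StdOE.Cover.Data

/-! Checks of the certificates of the double cover on 240 points. -/

set_option autoImplicit false
set_option maxHeartbeats 0
set_option maxRecDepth 100000
set_option Elab.async false

namespace Cfsg.Agent.StdOE.Cover

open Cfsg.Agent.Compute Cfsg.Agent.StemCert.CyclicSheets Cfsg.Agent.OrthMult.EightTwo

/-- Permutations of 120 pairs of points. -/
noncomputable def rep2h : Rep (Equiv.Perm (Fin 240)) (Fin 240) :=
  sheetRep 8 2 120 240 (by norm_num) (by norm_num) (by norm_num) (by norm_num)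

/-- A product of commutators of two lists of codes. -/
noncomputable def commOf (a ai : List ℕ) (l : List (ℕ × ℕ)) : ℕ :=
  List.rec (motive := fun _ => ℕ) (cId 9 2 240)
    (fun p _ r => cMul 9 2 240
      (cMul 9 2 240 (cMul 9 2 240 (cMul 9 2 240 (a.getD p.1 0) (a.getD p.2 0))
        (ai.getD p.1 0)) (ai.getD p.2 0)) r) l

theorem half_ok : allBelow 7 (fun s => cOkB 8 2 120 (halfCodes.getD s 0) &&
    allBelow 240 (fun x =>
      Nat.beq (cAct 9 2 (lifts.getD s 0) x) (cAct 8 2 (halfCodes.getD s 0) x))) = true := by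
  decide +kernel

theorem sign_ok : (cOkB 8 2 120 signCode && allBelow 240 (fun x =>
    Nat.beq (cAct 9 2 flipA x) (cAct 8 2 signCode x) && Nat.beq (cAct 9 2 flipB x) x)) = true := by
  decide +kernel

theorem refl_ok : (cOkB 8 2 120 reflCode && Nat.blt reflVec 256 && qB reflVec &&
    Nat.beq (cMul 8 2 120 reflCode reflCode) (cId 8 2 120) &&
    allBelow 120 (fun p => Nat.beq (tvImg reflVec (getField 8 ptsCode p))
      (getField 8 ptsCode (Nat.div (getField 8 reflCode p) 2)))) = true := by decide +kernel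

theorem swap_ok : (cOkB 9 2 240 swapCode &&
    Nat.beq (cMul 9 2 240 swapCode flipA) (cMul 9 2 240 flipB swapCode) &&
    allBelow 7 (fun s => cOkB 9 2 240 (swapImgs.getD s 0) &&
      Nat.beq (rep2s.sift coverChain (swapImgs.getD s 0)) rep2s.one &&
      Nat.beq (cMul 9 2 240 swapCode (lifts.getD s 0))
        (cMul 9 2 240 (swapImgs.getD s 0) swapCode))) = true := by decide +kernel

theorem reflImg_ok : allBelow 7 (fun s =>
    cOkB 9 2 240 (reflImgs.getD s 0) && cOkB 9 2 240 (reflImgInvs.getD s 0) &&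
    Nat.beq (cMul 9 2 240 (reflImgInvs.getD s 0) (reflImgs.getD s 0)) (cId 9 2 240) &&
    Nat.beq (rep2s.sift coverChain (reflImgs.getD s 0)) rep2s.one &&
    allBelow 240 (fun x => Nat.beq (cAct 9 2 (reflImgs.getD s 0) x)
      (cAct 8 2 (cMul 8 2 120 reflCode (cMul 8 2 120 (halfCodes.getD s 0) reflCode)) x))) = true := by
  decide +kernel

theorem reflComm_ok : Nat.beq (commOf reflImgs reflImgInvs pairsA) (cMul 9 2 240 flipA flipB) = true := by
  decide +kernel

end Cfsg.Agent.StdOE.Cover
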