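import Cfsg.Prelude.Def_KGroupFacts
import Mathlib.Tactic.Group
import Mathlib.GroupTheory.Abelianization.Defs
import Mathlib.GroupTheory.Index

/-!
A stem extension of largest kernel covers every perfect central extension of the same group.
-/

set_option autoImplicit false

namespace Cfsg.Agent.StdOE.Cover

open Subgroup
open scoped commutatorElement

/-- A commutator ignores central factors. -/
theorem commutator_mul_central {H : Type*} [Group H] {c d : H} (hc : c ∈ center H) (hd : d ∈ center H) (a b : H) :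
    ⁅c * a, d * b⁆ = ⁅a, b⁆ := by
  have cz : ∀ x, c * x = x * c := fun x => (mem_center_iff.mp hc x).symm
  have cw : ∀ x, d * x = x * d := fun x => (mem_center_iff.mp hd x).symm
  simp only [commutatorElement_def, mul_inv_rev]
  calc c * a * (d * b) * (a⁻¹ * c⁻¹) * (b⁻¹ * d⁻¹)
      = c * (a * d) * b * a⁻¹ * (c⁻¹ * b⁻¹) * d⁻¹ := by group
    _ = c * (d * a) * b * a⁻¹ * (b⁻¹ * c⁻¹) * d⁻¹ := by
      rw [cw a, show c⁻¹ * b⁻¹ = b⁻¹ * c⁻¹ by rw [← mul_inv_rev, ← mul_inv_rev, cz]]
    _ = c * (d * (a * b * a⁻¹ * b⁻¹)) * c⁻¹ * d⁻¹ := by group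
    _ = (d * (a * b * a⁻¹ * b⁻¹)) * c * c⁻¹ * d⁻¹ := by rw [cz]
    _ = d * (a * b * a⁻¹ * b⁻¹) * d⁻¹ := by group
    _ = a * b * a⁻¹ * b⁻¹ := by rw [cw, mul_inv_cancel_right]

variable {Γ H Q : Type*} [Group Γ] [Group H] [Group Q]

/-- The commutator subgroup of a perfect group is everything downstairs. -/
theorem map_commutator_top (f : Γ →* H) (hf : Function.Surjective f) (hH : commutator H = ⊤) :
    (commutator Γ).map f = ⊤ := by
  rw [_root_.commutator_def, Subgroup.map_commutator, Subgroup.map_top_of_surjective f hf,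
    ← _root_.commutator_def, hH]

/-- Two maps of a perfect group agreeing modulo the centre agree. -/
theorem hom_unique (hΓ : commutator Γ = ⊤) (τ : H →* Q) (hz : τ.ker ≤ center H) {f g : Γ →* H}
    (h : τ.comp f = τ.comp g) : f = g := by
  have hc : ∀ x, f x * (g x)⁻¹ ∈ center H := fun x => hz (by
    rw [MonoidHom.mem_ker, map_mul, map_inv, show τ (f x) = τ (g x) from DFunLike.congr_fun h x,
      mul_inv_cancel])
  refine MonoidHom.ext fun x => ?_
  suffices commutator Γ ≤ f.eqLocus g from this (hΓ ▸ mem_top x)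
  rw [_root_.commutator_def, commutator_le]
  intro a _ b _
  show f ⁅a, b⁆ = g ⁅a, b⁆
  rw [map_commutatorElement, map_commutatorElement,
    ← inv_mul_cancel_right (f a) (g a), ← inv_mul_cancel_right (f b) (g b)]
  exact commutator_mul_central (hc a) (hc b) _ _

/-- A stem extension of largest kernel maps onto every perfect central extension. -/
theorem exists_cover_hom {Γ H Q : Type} [Group Γ] [Finite Γ] [Group H] [Finite H] [Group Q]
    (σ : Γ →* Q) (hσs : Function.Surjective σ) (hσz : σ.ker ≤ center Γ) (hΓ : commutator Γ = ⊤)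
    (τ : H →* Q) (hτs : Function.Surjective τ) (hτz : τ.ker ≤ center H) (hH : commutator H = ⊤)
    (hmax : ∀ (Δ : Type) [Group Δ] [Finite Δ] (π : Δ →* Q), Cfsg.IsStemExtension π →
      Nat.card π.ker ≤ Nat.card σ.ker) :
    ∃ f : Γ →* H, Function.Surjective f ∧ τ.comp f = σ := by
  classical
  let P : Subgroup (Γ × H) := MonoidHom.eqLocus (σ.comp (MonoidHom.fst Γ H)) (τ.comp (MonoidHom.snd Γ H))
  let p1 : P →* Γ := (MonoidHom.fst Γ H).comp P.subtype
  let p2 : P →* H := (MonoidHom.snd Γ H).comp P.subtype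
  have h1s : Function.Surjective p1 := fun a => by
    obtain ⟨b, hb⟩ := hτs (σ a)
    exact ⟨⟨(a, b), hb.symm⟩, rfl⟩
  have h2s : Function.Surjective p2 := fun b => by
    obtain ⟨a, ha⟩ := hσs (τ b)
    exact ⟨⟨(a, b), ha⟩, rfl⟩
  let π₀ : P →* Q := σ.comp p1
  have hπz : π₀.ker ≤ center P := fun g hg => by
    have a1 : σ g.1.1 = 1 := hg
    have a2 : τ g.1.2 = 1 := g.2.symm.trans a1
    refine mem_center_iff.mpr fun x => Subtype.ext (Prod.ext ?_ ?_)
    · exact mem_center_iff.mp (hσz a1) _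
    · exact mem_center_iff.mp (hτz a2) _
  set D : Subgroup P := commutator P with hD
  have hQ : commutator Q = ⊤ := by
    rw [_root_.commutator_def, ← Subgroup.map_top_of_surjective σ hσs, ← Subgroup.map_commutator,
      ← _root_.commutator_def, hΓ]
  have hmapD : D.map π₀ = ⊤ := map_commutator_top π₀ (hσs.comp h1s) hQ
  have hdec : ∀ g : P, ∃ z ∈ center P, ∃ u ∈ D, g = z * u := fun g => by
    obtain ⟨u, hu, hug⟩ := (hmapD ▸ mem_top (π₀ g) : π₀ g ∈ D.map π₀)
    refine ⟨g * u⁻¹, hπz ?_, u, hu, by group⟩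
    rw [MonoidHom.mem_ker, map_mul, map_inv, hug, mul_inv_cancel]
  have hDD : ⁅D, D⁆ = D := by
    refine le_antisymm (commutator_le_right D D) ?_
    conv_lhs => rw [hD, _root_.commutator_def]
    rw [commutator_le]
    intro a _ b _
    obtain ⟨z, hz, u, hu, rfl⟩ := hdec a
    obtain ⟨w, hw, v, hv, rfl⟩ := hdec b
    rw [commutator_mul_central hz hw]
    exact commutator_mem_commutator hu hv
  let π : D →* Q := π₀.comp D.subtype
  have hπs : Function.Surjective π := fun x => by
    obtain ⟨u, hu, e⟩ := (hmapD ▸ mem_top x : x ∈ D.map π₀)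
    exact ⟨⟨u, hu⟩, e⟩
  have hperfD : commutator D = ⊤ := by
    apply Subgroup.map_injective D.subtype_injective
    rw [_root_.commutator_def, Subgroup.map_commutator, ← MonoidHom.range_eq_map, range_subtype, hDD]
  have hstem : Cfsg.IsStemExtension π :=
    ⟨hπs, fun d hd => mem_center_iff.mpr fun x => Subtype.ext (mem_center_iff.mp (hπz hd) x.1),
      by rw [hperfD]; exact le_top⟩
  have hk := hmax D π hstem
  have hq1 : Function.Surjective (p1.comp D.subtype) := fun a => by
    obtain ⟨u, hu, e⟩ := (map_commutator_top p1 h1s hΓ ▸ mem_top a : a ∈ D.map p1)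
    exact ⟨⟨u, hu⟩, e⟩
  have hle : Nat.card D ≤ Nat.card Γ := by
    rw [← Subgroup.card_mul_index π.ker, ← Subgroup.card_mul_index σ.ker, Subgroup.index_ker,
      Subgroup.index_ker, MonoidHom.range_eq_top.mpr hπs, MonoidHom.range_eq_top.mpr hσs]
    exact Nat.mul_le_mul_right _ hk
  let e : D ≃* Γ := MulEquiv.ofBijective (p1.comp D.subtype) (hq1.bijective_of_nat_card_le hle)
  refine ⟨(p2.comp D.subtype).comp e.symm.toMonoidHom, fun b => ?_, MonoidHom.ext fun a => ?_⟩
  · obtain ⟨u, hu, hub⟩ := (map_commutator_top p2 h2s hH ▸ mem_top b : b ∈ D.map p2)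
    exact ⟨e ⟨u, hu⟩, by simpa using hub⟩
  · have h := (e.symm a : P).2
    change σ (e.symm a : P).1.1 = τ (e.symm a : P).1.2 at h
    show τ (e.symm a : P).1.2 = σ a
    rw [← h]
    exact congrArg σ (e.apply_symm_apply a)

/-- A copy in the lowest universe. -/
def Carrier (n : ℕ) : Type := Fin n

instance finite_carrier (n : ℕ) : Finite (Carrier n) := inferInstanceAs (Finite (Fin n))

theorem exists_copy (K : Type*) [Group K] [Finite K] :
    ∃ (K₀ : Type) (_ : Group K₀) (_ : Finite K₀), Nonempty (K₀ ≃* K) := by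
  let ec : Carrier (Nat.card K) ≃ K := (Finite.equivFin K).symm
  exact ⟨Carrier (Nat.card K), ec.group, inferInstance, ⟨letI := ec.group; ec.mulEquiv⟩⟩

end Cfsg.Agent.StdOE.Cover
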