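import Cfsg.Agent.StdOE.Cover.Checks
import Cfsg.Agent.StdOE.Cover.Univ
import Cfsg.Agent.Classical.OrthEichler

/-!
The double cover of the eight-dimensional orthogonal group of plus type over two elements on 240
points, as a quotient of the universal cover.
-/

set_option autoImplicit false
set_option maxRecDepth 100000

namespace Cfsg.Agent.StdOE.Cover

open Cfsg.Agent.Compute Cfsg.Agent.StemCert Cfsg.Agent.StemCert.CyclicSheets
  Cfsg.Agent.Classical.Quad Cfsg.Agent.OrthMult.EightTwo Module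

attribute [local irreducible] cMul cId lifts liftInvs flipA flipB coverChain codes pairsA pairsB
  ptsCode posCode tvWords flipCode flipPairs halfCodes signCode reflCode swapCode swapImgs reflImgs
  reflImgInvs

/-- The field with two elements. -/
abbrev F₂ : Type := ZMod 2

theorem card_F₂ : Fintype.card F₂ = 2 := ZMod.card 2

/-- The orthogonal group. -/
abbrev Q₈ : Type := ↥(eo (Q F₂))

/-- The universal cover. -/
abbrev Γ₈ : Type := ↥(cover F₂)

/-- The covering map. -/
noncomputable abbrev pr : Γ₈ →* Q₈ := proj F₂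

theorem hlt_half (y : Γ₈) {x : Fin 480} (hx : (x : ℕ) < 240) : (y.1.2 x : ℕ) < 240 := by
  have := compat card_F₂ y x hx
  have := (ι card_F₂ y.1.1 ⟨(x : ℕ) / 2, by omega⟩).2
  omega

/-- The action on the first half, as a function. -/
def halfFun (y : Γ₈) (x : Fin 240) : Fin 240 :=
  ⟨(y.1.2 ⟨x, lt_trans x.2 (by norm_num)⟩ : ℕ), hlt_half y x.2⟩

/-- The action on the first half. -/
noncomputable def half : Γ₈ →* Equiv.Perm (Fin 240) :=
  MonoidHom.mk'
    (fun y => Equiv.ofBijective (halfFun y) (Finite.injective_iff_bijective.mp fun a b h =>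
      Fin.ext (Fin.mk.injEq _ _ _ _ ▸ y.1.2.injective (Fin.ext (congrArg Fin.val h :)))))
    fun a b => Equiv.ext fun x => Fin.ext rfl

theorem half_apply (y : Γ₈) (x : Fin 240) :
    (half y x : ℕ) = (y.1.2 ⟨x, lt_trans x.2 (by norm_num)⟩ : ℕ) := rfl

theorem half_div (y : Γ₈) (x : Fin 240) :
    (half y x : ℕ) / 2 = (ι card_F₂ (pr y) ⟨(x : ℕ) / 2, by omega⟩ : ℕ) :=
  compat card_F₂ y _ x.2

theorem den_half {c : ℕ} (h : COk 8 2 120 c) (x : Fin 240) : (rep2h.den c x : ℕ) = cAct 8 2 c x :=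
  cDen_apply (w := 8) (m := 2) (n := 120) (N := 240) (hm := by norm_num) (hN := rfl) h x

/-- The generators on 240 points. -/
noncomputable def gen240 (s : ℕ) : Equiv.Perm (Fin 240) := rep2h.den (halfCodes.getD s 0)

/-- The change of all signs. -/
noncomputable def sgn : Equiv.Perm (Fin 240) := rep2h.den signCode

/-- A reflection. -/
noncomputable def refl : Equiv.Perm (Fin 240) := rep2h.den reflCode

/-- The double cover. -/
noncomputable def M : Subgroup (Equiv.Perm (Fin 240)) := Subgroup.closure (gen240 '' {s | s < 7})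

/-- The Weyl group of type `E8`. -/
noncomputable def W : Subgroup (Equiv.Perm (Fin 240)) := M ⊔ Subgroup.zpowers refl

theorem half_lift {s : ℕ} (hs : s < 7) : half (lift F₂ s) = gen240 s := by
  have h := allBelow_eq_true.mp half_ok s hs
  simp only [Bool.and_eq_true, allBelow_eq_true, Nat.beq_eq] at h
  obtain ⟨-, ho, -, -⟩ := lift_spec hs
  refine Equiv.ext fun x => Fin.ext ?_
  rw [half_apply, lift_val hs, gen240, den_half (ok_of_check (by norm_num) h.1) x]
  show (rep2s.den (lifts.getD s 0) _ : ℕ) = _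
  rw [act2s ho]
  exact h.2 x x.2

theorem lift_closure : Subgroup.closure (lift F₂ '' {s | s < 7}) = ⊤ := by
  refine Subgroup.map_injective (cover F₂).subtype_injective ?_
  rw [MonoidHom.map_closure, ← MonoidHom.range_eq_map, Subgroup.range_subtype, Set.image_image]
  show _ = Subgroup.closure _
  congr 1
  exact Set.image_congr fun s hs => lift_val hs

theorem half_range : half.range = M := by
  rw [MonoidHom.range_eq_map, ← lift_closure, MonoidHom.map_closure, M, Set.image_image]
  congr 1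
  exact Set.image_congr fun s hs => half_lift hs

/-- The first central element. -/
noncomputable abbrev z0 : Γ₈ := zc F₂ 0

/-- The second central element. -/
noncomputable abbrev z1 : Γ₈ := zc F₂ 1

theorem snd_z0 : z0.1.2 = rep2s.den flipA := by
  rw [zc_snd (by norm_num : 0 < 2)]
  unfold flipCode
  rfl

theorem snd_z1 : z1.1.2 = rep2s.den flipB := by
  rw [zc_snd (by norm_num : 1 < 2)]
  unfold flipCode
  rfl

theorem ok_flipA : rep2s.Ok flipA := by
  have h := (cent_spec (r := 0) (by norm_num)).1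
  unfold flipCode at h
  exact h

theorem ok_flipB : rep2s.Ok flipB := by
  have h := (cent_spec (r := 1) (by norm_num)).1
  unfold flipCode at h
  exact h

theorem half_z0 : half z0 = sgn := by
  have h := sign_ok
  simp only [Bool.and_eq_true, allBelow_eq_true, Nat.beq_eq] at h
  refine Equiv.ext fun x => Fin.ext ?_
  rw [half_apply, snd_z0, sgn, den_half (ok_of_check (by norm_num) h.1) x, act2s ok_flipA]
  exact (h.2 x x.2).1

theorem half_z1 : half z1 = 1 := by
  have h := sign_ok
  simp only [Bool.and_eq_true, allBelow_eq_true, Nat.beq_eq] at h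
  refine Equiv.ext fun x => Fin.ext ?_
  rw [half_apply, snd_z1, act2s ok_flipB]
  exact (h.2 x x.2).2

theorem sgn_ne : sgn ≠ 1 := fun e => by
  have h := congrArg (fun σ : Equiv.Perm (Fin 240) => (σ ⟨0, by norm_num⟩ : ℕ)) (half_z0.trans e)
  obtain ⟨o0, -, -, -, p0, -, -, -⟩ := cent_spec (r := 0) (by norm_num)
  simp only [half_apply, zc_snd (show 0 < 2 by norm_num), act2s o0, p0, Equiv.Perm.one_apply] at h
  omega

theorem z_sq {r : ℕ} (hr : r < 2) : zc F₂ r * zc F₂ r = 1 := by
  refine snd_injective card_F₂ ?_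
  show (zc F₂ r).1.2 * (zc F₂ r).1.2 = 1
  rw [zc_snd hr, ← pow_two, (cent_spec hr).2.2.2.1]

theorem z_free {a b : ℕ} (ha : a < 2) (hb : b < 2) (h : z0 ^ a * z1 ^ b = 1) : a = 0 ∧ b = 0 := by
  refine cent_free ha hb ?_
  have e := congrArg (fun y : Γ₈ => y.1.2) h
  simp only [Subgroup.coe_mul, Prod.snd_mul, Subgroup.coe_pow, Prod.pow_snd, Subgroup.coe_one,
    Prod.snd_one, z0, z1, zc_snd (show 0 < 2 by norm_num), zc_snd (show 1 < 2 by norm_num)] at e
  exact e

theorem z_ne : z0 ≠ 1 ∧ z1 ≠ 1 ∧ z0 * z1 ≠ 1 ∧ z0 ≠ z1 := by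
  refine ⟨fun h => ?_, fun h => ?_, fun h => ?_, fun h => ?_⟩
  · simpa using (z_free (a := 1) (b := 0) (by norm_num) (by norm_num) (by simp [h])).1
  · simpa using (z_free (a := 0) (b := 1) (by norm_num) (by norm_num) (by simp [h])).2
  · simpa using (z_free (a := 1) (b := 1) (by norm_num) (by norm_num) (by simpa using h)).1
  · simpa using (z_free (a := 1) (b := 1) (by norm_num) (by norm_num)
      (by rw [pow_one, pow_one, h]; exact z_sq (by norm_num))).1

theorem card_Q₈ : Nat.card Q₈ = 174182400 := card_group card_F₂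

theorem ker_pr_le : Nat.card pr.ker ≤ 4 := by
  have h1 := Subgroup.card_mul_index pr.ker
  rw [Subgroup.index_ker, MonoidHom.range_eq_top.mpr (proj_surjective card_F₂), Subgroup.card_top,
    card_Q₈] at h1
  have h3 : Nat.card Γ₈ ≤ 696729600 := card_cover_le (F := F₂) card_F₂
  generalize Nat.card pr.ker = c at h1 ⊢
  generalize Nat.card Γ₈ = d at h1 h3
  omega

theorem ker_pr_eq : (pr.ker : Set Γ₈) = {1, z0, z1, z0 * z1} := by
  obtain ⟨n0, n1, n01, ne⟩ := z_ne
  have h0 : z0 ∈ pr.ker := zc_ker card_F₂ (by norm_num)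
  have h1 : z1 ∈ pr.ker := zc_ker card_F₂ (by norm_num)
  have e0 : z0 ≠ z0 * z1 := fun h => n1 (mul_eq_left.1 h.symm)
  have e1 : z1 ≠ z0 * z1 := fun h => n0 (mul_eq_right.1 h.symm)
  have hsub : ({1, z0, z1, z0 * z1} : Set Γ₈) ⊆ pr.ker := by
    rintro x (rfl | rfl | rfl | rfl)
    exacts [one_mem _, h0, h1, mul_mem h0 h1]
  refine (Set.eq_of_subset_of_ncard_le hsub ?_ (Set.toFinite _)).symm
  have hc : ({1, z0, z1, z0 * z1} : Set Γ₈).ncard = 4 := by
    rw [Set.ncard_insert_of_notMem (by simp [Ne.symm n0, Ne.symm n1, Ne.symm n01]) (Set.toFinite _),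
      Set.ncard_insert_of_notMem (by simp [ne, e0, Set.mem_insert_iff, not_or]) (Set.toFinite _),
      Set.ncard_pair e1]
  rw [hc, ← Nat.card_coe_set_eq]
  exact ker_pr_le

theorem ker_pr_cases {x : Γ₈} (hx : x ∈ pr.ker) : x = 1 ∨ x = z0 ∨ x = z1 ∨ x = z0 * z1 := by
  have h : x ∈ (pr.ker : Set Γ₈) := hx
  rw [ker_pr_eq] at h
  simpa using h

theorem ker_pr_card : Nat.card pr.ker = 4 := by
  obtain ⟨n0, n1, n01, ne⟩ := z_ne
  have e0 : z0 ≠ z0 * z1 := fun h => n1 (mul_eq_left.1 h.symm)
  have e1 : z1 ≠ z0 * z1 := fun h => n0 (mul_eq_right.1 h.symm)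
  show Nat.card ↥(pr.ker : Set Γ₈) = 4
  rw [ker_pr_eq, Nat.card_coe_set_eq,
    Set.ncard_insert_of_notMem (by simp [Ne.symm n0, Ne.symm n1, Ne.symm n01]) (Set.toFinite _),
    Set.ncard_insert_of_notMem (by simp [ne, e0, Set.mem_insert_iff, not_or]) (Set.toFinite _),
    Set.ncard_pair e1]

theorem pr_surjective : Function.Surjective pr := proj_surjective card_F₂

theorem ker_pr_center : pr.ker ≤ Subgroup.center Γ₈ := fun x hx => by
  have h0 := zc_center (F := F₂) card_F₂ (show 0 < 2 by norm_num)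
  have h1 := zc_center (F := F₂) card_F₂ (show 1 < 2 by norm_num)
  rcases ker_pr_cases hx with rfl | rfl | rfl | rfl
  exacts [one_mem _, h0, h1, mul_mem h0 h1]

theorem finrank_F₂ : 5 ≤ finrank F₂ (Fin 4 ⊕ Fin 4 → F₂) := by rw [finrank_eight]; norm_num

theorem eo_perfect : commutator Q₈ = ⊤ := by
  refine eq_top_iff.2 ?_
  rintro ⟨g, hg⟩ -
  have h := eo_le_commutator_eo nondeg_plusQ finrank_F₂ hg
  rw [← Subgroup.map_subtype_commutator] at h
  obtain ⟨x, hx, hxg⟩ := h
  exact (Subtype.ext hxg : x = ⟨g, hg⟩) ▸ hx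

theorem Γ₈_perfect : commutator Γ₈ = ⊤ := by
  refine eq_top_iff.2 fun g _ => ?_
  obtain ⟨u, hu, hug⟩ :=
    (map_commutator_top pr pr_surjective eo_perfect ▸ Subgroup.mem_top (pr g) : pr g ∈ (commutator Γ₈).map pr)
  have hk : g * u⁻¹ ∈ pr.ker := by rw [MonoidHom.mem_ker, map_mul, map_inv, hug, mul_inv_cancel]
  have h0 := zc_mem_commutator (F := F₂) 0
  have h1 := zc_mem_commutator (F := F₂) 1
  have hk' : g * u⁻¹ ∈ commutator Γ₈ := by
    rcases ker_pr_cases hk with e | e | e | e <;> rw [e]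
    exacts [one_mem _, h0, h1, mul_mem h0 h1]
  simpa using mul_mem hk' hu

theorem ker_half_le : half.ker ≤ pr.ker := by
  intro y hy
  rw [MonoidHom.mem_ker] at hy ⊢
  refine ι_injective card_F₂ (Equiv.ext fun q => Fin.ext ?_)
  have h := half_div y ⟨2 * (q : ℕ), by omega⟩
  rw [hy] at h
  simp only [Equiv.Perm.one_apply, Nat.mul_div_cancel_left (q : ℕ) (by norm_num : 0 < 2)] at h
  rw [map_one, Equiv.Perm.one_apply]
  exact h.symm

theorem ker_half {y : Γ₈} : y ∈ half.ker ↔ y = 1 ∨ y = z1 := by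
  constructor
  · intro hy
    rcases ker_pr_cases (ker_half_le hy) with rfl | rfl | rfl | rfl
    · exact Or.inl rfl
    · exact absurd (half_z0.symm.trans hy) sgn_ne
    · exact Or.inr rfl
    · rw [MonoidHom.mem_ker, map_mul, half_z0, half_z1, mul_one] at hy
      exact absurd hy sgn_ne
  · rintro (rfl | rfl)
    · exact one_mem _
    · exact half_z1

end Cfsg.Agent.StdOE.Cover
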